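import Mathlib
import Cfsg.Prelude.Def_Transfer
import Cfsg.Agent.Lib.Lead.Basic

set_option autoImplicit false

namespace Cfsg.Agent.Lib.Lead

open Subgroup
open scoped Pointwise

variable {G : Type*} [Group G]

/-- `N(P)/C(P)` argument: if no prime `q ≠ p` dividing `|G|` divides `|P| - |D|` for a proper subgroup
`D` of the abelian Sylow subgroup `P`, then `N(P) ≤ C(P)`. -/
theorem normalizer_le_centralizer_of_card [Finite G] {p : ℕ} [hp : Fact p.Prime] (P : Sylow p G)
    (hP : IsMulCommutative P)
    (h : ∀ q : ℕ, q.Prime → q ∣ Nat.card G → q ≠ p → ∀ D : Subgroup P, D ≠ ⊤ →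
      ¬ q ∣ (Nat.card P - Nat.card D)) :
    Subgroup.normalizer (P : Set G) ≤ Subgroup.centralizer (P : Set G) := by
  classical
  set φ := (P : Subgroup G).normalizerMonoidHom with hφ
  have hPC : (P : Subgroup G) ≤ Subgroup.centralizer (P : Set G) := by
    intro x hx y hy
    exact congrArg Subtype.val (hP.is_comm.comm ⟨y, hy⟩ ⟨x, hx⟩)
  by_contra hcon
  have hker : φ.ker ≠ ⊤ := by
    intro htop
    apply hcon
    rw [hφ, Subgroup.normalizerMonoidHom_ker, Subgroup.subgroupOf_eq_top] at htop
    exact htop
  have hrange : Nat.card φ.range ≠ 1 := by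
    intro h1
    apply hker
    rw [← Subgroup.index_ker, Subgroup.index_eq_one] at h1
    exact h1
  obtain ⟨q, hq, hqd⟩ := Nat.exists_prime_and_dvd hrange
  have hqidx : q ∣ (P : Subgroup G).index := by
    rw [← Subgroup.index_ker, hφ, Subgroup.normalizerMonoidHom_ker] at hqd
    have h1 : (Subgroup.centralizer (P : Set G)).relIndex (Subgroup.normalizer (P : Set G)) ∣
        (P : Subgroup G).relIndex (Subgroup.normalizer (P : Set G)) :=
      Subgroup.relIndex_dvd_of_le_left _ hPC
    exact (hqd.trans h1).trans (Subgroup.relIndex_dvd_index_of_le Subgroup.le_normalizer)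
  have hqG : q ∣ Nat.card G := hqidx.trans (Subgroup.index_dvd_card _)
  have hqp : q ≠ p := by
    rintro rfl
    exact P.not_dvd_index hqidx
  have : Fact q.Prime := ⟨hq⟩
  obtain ⟨α, hα⟩ := exists_prime_orderOf_dvd_card' q hqd
  have hα' : orderOf (α : MulAut P) = q := by rw [Subgroup.orderOf_coe]; exact hα
  have hpg : IsPGroup q (Subgroup.zpowers (α : MulAut P)) := by
    apply IsPGroup.of_card (n := 1)
    rw [Nat.card_zpowers, hα', pow_one]
  have hmod := hpg.card_modEq_card_fixedPoints P
  set D : Subgroup P := FixedPoints.subgroup (Subgroup.zpowers (α : MulAut P)) P with hD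
  have hDcard : Nat.card (MulAction.fixedPoints (Subgroup.zpowers (α : MulAut P)) P) = Nat.card D := rfl
  have hDtop : D ≠ ⊤ := by
    intro htop
    have : (α : MulAut P) = 1 := by
      ext x
      have hx : x ∈ D := htop ▸ Subgroup.mem_top x
      rw [hD, FixedPoints.mem_subgroup] at hx
      have := hx ⟨α, Subgroup.mem_zpowers _⟩
      simpa using congrArg Subtype.val this
    rw [this, orderOf_one] at hα'
    exact hq.one_lt.ne hα'
  apply h q hq hqG hqp D hDtop
  rw [hDcard] at hmod
  exact (Nat.modEq_iff_dvd' (Subgroup.card_le_card_group D)).mp hmod.symm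

end Cfsg.Agent.Lib.Lead
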