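import Mathlib
import Cfsg.Statements.S4115
import Cfsg.Agent.S0877
import Cfsg.Agent.S0035
import Cfsg.Agent.S0042
import Cfsg.Agent.S0039
import Cfsg.Agent.Lib.Helper1.Wielandt

set_option autoImplicit false

namespace Cfsg.Agent.Lib.Lead.TIHall
open Subgroup

variable {G : Type*} [Group G] {H : Subgroup G}

theorem ti_mem (hTI : Cfsg.IsTISubset (H : Set G)) {g x : G} (hx : x ∈ H) (hx1 : x ≠ 1)
    (h : g * x * g⁻¹ ∈ H) : g ∈ normalizer (H : Set G) := by
  by_contra hcon
  exact hx1 (hTI g hcon x hx h)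

/-- A TI subgroup which is Hall in its normaliser is Hall in the whole group. -/
theorem hall_of_ti [Finite G] (hTI : Cfsg.IsTISubset (H : Set G))
    (hHall : (Nat.card H).Coprime (H.subgroupOf (normalizer (H : Set G))).index) :
    (Nat.card H).Coprime H.index := by
  rw [Nat.coprime_iff_gcd_eq_one]
  by_contra hne
  obtain ⟨p, hp, hpd⟩ := Nat.exists_prime_and_dvd hne
  have : Fact p.Prime := ⟨hp⟩
  have hpH : p ∣ Nat.card H := hpd.trans (Nat.gcd_dvd_left _ _)
  have hpI : p ∣ H.index := hpd.trans (Nat.gcd_dvd_right _ _)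
  obtain ⟨P⟩ : Nonempty (Sylow p H) := inferInstance
  set n := (Nat.card H).factorization p with hn
  have hPc : Nat.card P = p ^ n := P.card_eq_multiplicity
  set P' : Subgroup G := (P : Subgroup H).map H.subtype with hP'
  have hP'c : Nat.card P' = p ^ n := by
    rw [hP', Subgroup.card_map_of_injective H.subtype_injective]; exact hPc
  have hP'H : P' ≤ H := Subgroup.map_subtype_le _
  have hn1 : 1 ≤ n := (hp.dvd_iff_one_le_factorization Nat.card_pos.ne').mp hpH
  have hdvd : p ^ (n + 1) ∣ Nat.card G := by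
    rw [← H.card_mul_index, pow_succ]
    exact mul_dvd_mul (Nat.ordProj_dvd _ _) hpI
  have h1 := Sylow.prime_pow_dvd_card_normalizer hdvd hP'c
  -- a nontrivial element
  have hP'ne : P' ≠ ⊥ := by
    intro h
    rw [h, Subgroup.card_bot] at hP'c
    have : 1 < p ^ n := Nat.one_lt_pow (by omega) hp.one_lt
    omega
  obtain ⟨x, hxP, hx1⟩ : ∃ x : G, x ∈ P' ∧ x ≠ 1 := by
    obtain ⟨a, ha⟩ := Subgroup.ne_bot_iff_exists_ne_one.mp hP'ne
    exact ⟨a, a.2, fun h => ha (Subtype.ext h)⟩
  have hle : normalizer (P' : Set G) ≤ normalizer (H : Set G) := by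
    intro g hg
    have := (Subgroup.mem_normalizer_iff.mp hg x).mp hxP
    exact ti_mem hTI (hP'H hxP) hx1 (hP'H this)
  have h2 : p ^ (n + 1) ∣ Nat.card (normalizer (H : Set G)) := h1.trans (Subgroup.card_dvd_of_le hle)
  have h3 : Nat.card (normalizer (H : Set G)) =
      Nat.card H * (H.subgroupOf (normalizer (H : Set G))).index := by
    rw [← (H.subgroupOf (normalizer (H : Set G))).card_mul_index]
    congr 1
    exact Nat.card_congr (Subgroup.subgroupOfEquivOfLe Subgroup.le_normalizer).toEquiv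
  rw [h3] at h2
  have hcop : (p ^ (n + 1)).Coprime (H.subgroupOf (normalizer (H : Set G))).index := by
    apply Nat.Coprime.pow_left
    exact Nat.Coprime.coprime_dvd_left hpH hHall
  have h4 := hcop.dvd_of_dvd_mul_right h2
  exact Nat.pow_succ_factorization_not_dvd Nat.card_pos.ne' hp h4


/-- every element of the normaliser is `k * h` with `h ∈ H`, `k` centralising `H`, `k ^ m = 1`. -/
def Split (H : Subgroup G) (m : ℕ) : Prop :=
  ∀ g ∈ normalizer (H : Set G), ∃ k h : G, h ∈ H ∧ (∀ y ∈ H, Commute k y) ∧ k ^ m = 1 ∧ g = k * h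

theorem split_of_compl (K0 : Subgroup (normalizer (H : Set G))) (hn : K0.Normal)
    (hc : K0.IsComplement' (H.subgroupOf (normalizer (H : Set G)))) :
    Split H (H.subgroupOf (normalizer (H : Set G))).index := by
  intro g hg
  obtain ⟨⟨k, h⟩, hkh⟩ := hc.2 ⟨g, hg⟩
  refine ⟨(k : normalizer (H : Set G)), (h : normalizer (H : Set G)), Subgroup.mem_subgroupOf.mp h.2, ?_, ?_, ?_⟩
  · intro y hy
    have := Subgroup.commute_of_normal_of_disjoint K0 (H.subgroupOf (normalizer (H : Set G))) hn
      Subgroup.normal_in_normalizer hc.disjoint (k : normalizer (H : Set G))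
      ⟨y, Subgroup.le_normalizer hy⟩ k.2 (Subgroup.mem_subgroupOf.mpr hy)
    have h2 := congrArg (Subtype.val) this.eq
    exact h2
  · rw [hc.index_eq_card]
    have : k ^ Nat.card K0 = 1 := pow_card_eq_one'
    have h2 := congrArg (fun t : K0 => ((t : normalizer (H : Set G)) : G)) this
    exact h2
  · have h2 := congrArg (Subtype.val) hkh
    simpa using h2.symm

theorem mem_of_pow {m : ℕ} (hS : Split H m) (hm : (Nat.card H).Coprime m) {g : G}
    (hg : g ∈ normalizer (H : Set G)) (hgp : g ^ Nat.card H = 1) : g ∈ H := by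
  obtain ⟨k, h, hh, hcomm, hk, rfl⟩ := hS g hg
  have h1 : (k * h) ^ Nat.card H = k ^ Nat.card H * h ^ Nat.card H := (hcomm h hh).mul_pow _
  have h2 : h ^ Nat.card H = 1 := by
    have : (⟨h, hh⟩ : H) ^ Nat.card H = 1 := pow_card_eq_one'
    exact congrArg Subtype.val this
  rw [h1, h2, mul_one] at hgp
  have h3 : orderOf k ∣ Nat.card H := orderOf_dvd_of_pow_eq_one hgp
  have h4 : orderOf k ∣ m := orderOf_dvd_of_pow_eq_one hk
  have h5 : orderOf k = 1 := Nat.eq_one_of_dvd_coprimes hm h3 h4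
  rw [orderOf_eq_one_iff] at h5
  rw [h5, one_mul]; exact hh

/-- A subgroup of `π`-elements having a nontrivial central element inside `H` lies in `H`. -/
theorem le_of_central {m : ℕ} (hTI : Cfsg.IsTISubset (H : Set G)) (hS : Split H m)
    (hm : (Nat.card H).Coprime m) (E : Subgroup G) {z : G} (hzH : z ∈ H) (hz1 : z ≠ 1)
    (hzc : ∀ y ∈ E, Commute y z) (hE : ∀ y ∈ E, y ^ Nat.card H = 1) : E ≤ H := by
  intro y hy
  refine mem_of_pow hS hm (ti_mem hTI hzH hz1 ?_) (hE y hy)
  rw [(hzc y hy).eq, mul_inv_cancel_right]; exact hzH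

/-- conjugating into `H`. -/
theorem exists_conj_le [Finite G] {m : ℕ} (hTI : Cfsg.IsTISubset (H : Set G)) (hS : Split H m)
    (hm : (Nat.card H).Coprime m) (hHall : (Nat.card H).Coprime H.index)
    (E : Subgroup G) {z : G} (hzE : z ∈ E) (hz1 : z ≠ 1)
    (hzc : ∀ y ∈ E, Commute y z) (hE : ∀ y ∈ E, y ^ Nat.card H = 1)
    {q : ℕ} (hq : q.Prime) (hzq : IsPGroup q (zpowers z)) :
    ∃ c : G, ∀ y ∈ E, c⁻¹ * y * c ∈ H := by
  have : Fact q.Prime := ⟨hq⟩
  have hqd : q ∣ Nat.card H := by
    obtain ⟨k, hk⟩ := (IsPGroup.iff_orderOf.mp hzq) ⟨z, mem_zpowers z⟩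
    rw [Subgroup.orderOf_mk] at hk
    have hk0 : k ≠ 0 := by
      rintro rfl
      rw [pow_zero, orderOf_eq_one_iff] at hk
      exact hz1 hk
    have h1 : q ∣ orderOf z := by rw [hk]; exact dvd_pow_self q hk0
    exact h1.trans (orderOf_dvd_of_pow_eq_one (hE z hzE))
  have hqi : ¬ q ∣ H.relIndex ⊤ := by
    rw [Subgroup.relIndex_top_right]
    intro h
    have := Nat.eq_one_of_dvd_coprimes hHall hqd h
    exact hq.one_lt.ne' this
  obtain ⟨c, -, hc⟩ := Cfsg.Agent.Lib.Helper1.exists_conj_le_of_not_dvd_relIndex H ⊤ (zpowers z) hqi le_top hzq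
  refine ⟨c, ?_⟩
  have hz' := hc z (mem_zpowers z)
  have key := le_of_central hTI hS hm (E.map (MulAut.conj c⁻¹).toMonoidHom) hz'
    (by
      intro h
      apply hz1
      have : z = c * (c⁻¹ * z * c) * c⁻¹ := by group
      rw [this, h]; group)
    (by
      rintro _ ⟨y, hy, rfl⟩
      have := (hzc y hy).eq
      show (MulAut.conj c⁻¹ y) * (c⁻¹ * z * c) = (c⁻¹ * z * c) * (MulAut.conj c⁻¹ y)
      simp only [MulAut.conj_apply, inv_inv]
      calc c⁻¹ * y * c * (c⁻¹ * z * c) = c⁻¹ * (y * z) * c := by group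
        _ = c⁻¹ * (z * y) * c := by rw [this]
        _ = _ := by group)
    (by
      rintro _ ⟨y, hy, rfl⟩
      show (MulAut.conj c⁻¹ y) ^ Nat.card H = 1
      rw [← map_pow, hE y hy, map_one])
  intro y hy
  have := key (Subgroup.mem_map_of_mem _ hy)
  simpa [MulAut.conj_apply] using this


theorem exists_central_pelt {E : Type*} [Group E] [Finite E] [Nontrivial E] {p : ℕ} (hp : p.Prime)
    (hE : Cfsg.IsElementary p E) :
    ∃ z : E, z ≠ 1 ∧ z ∈ center E ∧ ∃ q : ℕ, q.Prime ∧ IsPGroup q (zpowers z) := by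
  obtain ⟨x, hxc, -, k, hk⟩ := hE
  by_cases hx : x = 1
  · subst hx
    have : Fact p.Prime := ⟨hp⟩
    have hc : Nat.card E = p ^ k := by
      rw [← hk, zpowers_one_eq_bot, Subgroup.index_bot]
    have hP : IsPGroup p E := IsPGroup.of_card hc
    have := hP.center_nontrivial
    obtain ⟨z, hz⟩ := exists_ne (1 : center E)
    exact ⟨z, fun h => hz (Subtype.ext h), z.2, p, hp, hP.to_subgroup _⟩
  · have ho : orderOf x ≠ 1 := fun h => hx (orderOf_eq_one_iff.mp h)
    set q := (orderOf x).minFac with hq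
    have hqp : q.Prime := Nat.minFac_prime ho
    have hqd : q ∣ orderOf x := Nat.minFac_dvd _
    have hz : orderOf (x ^ (orderOf x / q)) = q :=
      orderOf_pow_orderOf_div (orderOf_pos x).ne' hqd
    refine ⟨x ^ (orderOf x / q), ?_, Subgroup.pow_mem _ hxc _, q, hqp, ?_⟩
    · intro h
      rw [h, orderOf_one] at hz
      exact hqp.one_lt.ne hz
    · apply IsPGroup.of_card (n := 1)
      rw [Nat.card_zpowers, hz, pow_one]

theorem exists_normal_compl [Finite G] {m : ℕ} (hTI : Cfsg.IsTISubset (H : Set G))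
    (hS : Split H m) (hm : (Nat.card H).Coprime m) (hHall : (Nat.card H).Coprime H.index) :
    ∃ N : Subgroup G, N.Normal ∧ N.IsComplement' H := by
  obtain ⟨K, hKn, hsup, hinf⟩ := Cfsg.Agent.S0877.result H hHall
    (by
      intro x hx y hy hxy
      obtain ⟨c, hc⟩ := isConj_iff.mp hxy
      by_cases hx1 : x = 1
      · subst hx1
        refine ⟨1, H.one_mem, ?_⟩
        rw [← hc]; group
      · have hcN := ti_mem hTI hx hx1 (by rw [hc]; exact hy)
        obtain ⟨k, h, hh, hcomm, -, rfl⟩ := hS c hcN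
        refine ⟨h, hh, ?_⟩
        have h1 : h * x * h⁻¹ ∈ H := H.mul_mem (H.mul_mem hh hx) (H.inv_mem hh)
        have h2 := (hcomm _ h1).eq
        rw [← hc]
        calc h * x * h⁻¹ = (h * x * h⁻¹) * k * k⁻¹ := by group
          _ = k * (h * x * h⁻¹) * k⁻¹ := by rw [h2]
          _ = _ := by group)
    (by
      intro E p hp hE hcard
      by_cases hEb : E = ⊥
      · subst hEb
        exact ⟨1, by simp⟩
      · have : Nontrivial E := (Subgroup.nontrivial_iff_ne_bot E).mpr hEb
        obtain ⟨z, hz1, hzc, q, hq, hzq⟩ := exists_central_pelt hp hE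
        have hpow : ∀ y ∈ E, y ^ Nat.card H = 1 := by
          intro y hy
          have h1 : (⟨y, hy⟩ : E) ^ Nat.card E = 1 := pow_card_eq_one'
          have h2 : y ^ Nat.card E = 1 := congrArg Subtype.val h1
          obtain ⟨d, hd⟩ := hcard
          rw [hd, pow_mul, h2, one_pow]
        obtain ⟨c, hc⟩ := exists_conj_le hTI hS hm hHall E (z := (z : G)) z.2
          (fun h => hz1 (Subtype.ext h))
          (fun y hy => by
            have := (Subgroup.mem_center_iff.mp hzc ⟨y, hy⟩)
            exact congrArg Subtype.val this)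
          hpow hq
          (by
            have h1 : zpowers (z : G) = (zpowers z).map E.subtype := by
              rw [MonoidHom.map_zpowers]; rfl
            rw [h1]
            exact hzq.map _)
        refine ⟨c⁻¹, ?_⟩
        rintro _ ⟨y, hy, rfl⟩
        simpa [MulAut.conj_apply] using hc y hy)
  refine ⟨K, hKn, ?_⟩
  apply Subgroup.isComplement'_of_disjoint_and_mul_eq_univ (disjoint_iff.mpr hinf)
  rw [← Subgroup.normal_mul, hsup, Subgroup.coe_top]

theorem compl_in_normalizer (N : Subgroup G) (hN : N.Normal) (hc : N.IsComplement' H) :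
    ∃ K : Subgroup (normalizer (H : Set G)), K.Normal ∧
      K.IsComplement' (H.subgroupOf (normalizer (H : Set G))) := by
  refine ⟨N.subgroupOf _, hN.subgroupOf _, ?_⟩
  apply Subgroup.isComplement'_of_disjoint_and_mul_eq_univ
  · rw [Subgroup.disjoint_def]
    intro x hx1 hx2
    have := (Subgroup.disjoint_def.mp hc.disjoint) (Subgroup.mem_subgroupOf.mp hx1)
      (Subgroup.mem_subgroupOf.mp hx2)
    exact Subtype.ext this
  · rw [Set.eq_univ_iff_forall]
    intro g
    obtain ⟨⟨n, h⟩, hnh⟩ := hc.2 (g : G)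
    have hnh' : (n : G) * (h : G) = g := hnh
    have hhN : (h : G) ∈ normalizer (H : Set G) := Subgroup.le_normalizer h.2
    have hnN : (n : G) ∈ normalizer (H : Set G) := by
      have : (n : G) = g * (h : G)⁻¹ := by rw [← hnh']; group
      rw [this]
      exact Subgroup.mul_mem _ g.2 (Subgroup.inv_mem _ hhN)
    refine ⟨⟨n, hnN⟩, Subgroup.mem_subgroupOf.mpr n.2, ⟨h, hhN⟩, Subgroup.mem_subgroupOf.mpr h.2, ?_⟩
    exact Subtype.ext hnh'

end Cfsg.Agent.Lib.Lead.TIHall
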