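import Mathlib
import Cfsg.Agent.Lib.Lead.TIHall

set_option autoImplicit false

namespace Cfsg.Agent.Lib.Lead.TIHall
open Subgroup

universe u

/-- A fixed-point-free section gives a Frobenius group. -/
theorem frob_of_section {G : Type u} [Group G] [Finite G] (A B H : Subgroup G) (hBA : B ≤ A)
    (hne : ∃ n ∈ A, n ∉ B)
    (hAB : A ≤ normalizer (B : Set G)) (hHA : H ≤ normalizer (A : Set G))
    (hHB : H ≤ normalizer (B : Set G))
    (hdisj : ∀ h ∈ H, h ∈ A → h = 1) (hH : H ≠ ⊥)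
    (hfpf : ∀ n ∈ A, ∀ h ∈ H, h ≠ 1 → n * h * n⁻¹ * h⁻¹ ∈ B → n ∈ B) :
    ∃ (F : Type u) (_ : Group F) (_ : Finite F) (C : Subgroup F),
      Cfsg.IsFrobeniusComplement C ∧ Nonempty (H ≃* C) := by
  set T : Subgroup G := A ⊔ H with hT
  have hAT : A ≤ T := le_sup_left
  have hHT : H ≤ T := le_sup_right
  have hBT : B ≤ T := hBA.trans hAT
  have hTB : T ≤ normalizer (B : Set G) := sup_le hAB hHB
  have hdec : ∀ t ∈ T, ∃ n ∈ A, ∃ h ∈ H, t = n * h := by
    intro t ht
    have h1 : t ∈ ((A ⊔ H : Subgroup G) : Set G) := ht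
    rw [Subgroup.coe_mul_of_right_le_normalizer_left A H hHA] at h1
    obtain ⟨n, hn, h, hh, rfl⟩ := h1
    exact ⟨n, hn, h, hh, rfl⟩
  have hnorm : (B.subgroupOf T).Normal := (Subgroup.normal_subgroupOf_iff_le_normalizer hBT).mpr hTB
  let F := T ⧸ (B.subgroupOf T)
  let π : T →* F := QuotientGroup.mk' (B.subgroupOf T)
  have hπ1 : ∀ t : T, π t = 1 ↔ (t : G) ∈ B := by
    intro t
    rw [QuotientGroup.mk'_apply, QuotientGroup.eq_one_iff, Subgroup.mem_subgroupOf]
  let f : H →* F := π.comp (Subgroup.inclusion hHT)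
  have hfinj : Function.Injective f := by
    rw [injective_iff_map_eq_one]
    intro h hh
    have h1 : ((Subgroup.inclusion hHT h : T) : G) ∈ B := (hπ1 _).mp hh
    exact Subtype.ext (hdisj h h.2 (hBA h1))
  refine ⟨F, inferInstance, inferInstance, f.range, ⟨?_, ?_, ?_⟩, ⟨MonoidHom.ofInjective hfinj⟩⟩
  · intro hbot
    apply hH
    rw [Subgroup.eq_bot_iff_forall]
    intro h hh
    have h1 : f ⟨h, hh⟩ ∈ f.range := ⟨_, rfl⟩
    rw [hbot, Subgroup.mem_bot] at h1
    have := hfinj (h1.trans (map_one f).symm)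
    exact congrArg Subtype.val this
  · intro htop
    obtain ⟨n, hnA, hnB⟩ := hne
    have h1 : π ⟨n, hAT hnA⟩ ∈ f.range := by rw [htop]; trivial
    obtain ⟨h, hh⟩ := h1
    have h2 : π ((Subgroup.inclusion hHT h)⁻¹ * ⟨n, hAT hnA⟩) = 1 := by
      rw [map_mul, map_inv, ← hh]
      exact inv_mul_cancel _
    have h3 : (h : G)⁻¹ * n ∈ B := (hπ1 _).mp h2
    have h4 : (h : G) ∈ A := by
      have : (h : G) = n * ((h : G)⁻¹ * n)⁻¹ := by group
      rw [this]
      exact A.mul_mem hnA (A.inv_mem (hBA h3))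
    have h5 := hdisj h h.2 h4
    rw [h5] at h3
    apply hnB
    simpa using h3
  · intro g hg
    rw [Subgroup.eq_bot_iff_forall]
    intro x hx
    obtain ⟨⟨h1, hh1⟩, hx2⟩ := Subgroup.mem_inf.mp hx
    obtain ⟨y, ⟨h2, hh2⟩, hy⟩ := hx2
    obtain ⟨t, rfl⟩ := QuotientGroup.mk'_surjective (B.subgroupOf T) g
    obtain ⟨n, hnA, h0, hh0, ht⟩ := hdec t t.2
    by_contra hx1
    have hy' : π t * f h2 * (π t)⁻¹ = f h1 := by
      rw [hh1, hh2]
      exact hy
    -- the element of `H`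
    set h3 : G := h0 * h2 * h0⁻¹ with hh3
    have hh3H : h3 ∈ H := H.mul_mem (H.mul_mem hh0 h2.2) (H.inv_mem hh0)
    have e1 : π (t * Subgroup.inclusion hHT h2 * t⁻¹ * (Subgroup.inclusion hHT h1)⁻¹) = 1 := by
      rw [map_mul, map_mul, map_mul, map_inv, map_inv]
      have : π (Subgroup.inclusion hHT h1) = f h1 := rfl
      rw [this, ← hy']
      exact mul_inv_cancel _
    have e2 : (t : G) * h2 * (t : G)⁻¹ * (h1 : G)⁻¹ ∈ B := (hπ1 _).mp e1
    have e3 : n * h3 * n⁻¹ * (h1 : G)⁻¹ ∈ B := by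
      have : n * h3 * n⁻¹ * (h1 : G)⁻¹ = (t : G) * h2 * (t : G)⁻¹ * (h1 : G)⁻¹ := by
        rw [ht, hh3]; group
      rw [this]; exact e2
    have e4 : n * h3 * n⁻¹ * h3⁻¹ ∈ A := by
      have : h3 * n⁻¹ * h3⁻¹ ∈ A :=
        (Subgroup.mem_normalizer_iff.mp (hHA hh3H) n⁻¹).mp (A.inv_mem hnA)
      have h' : n * h3 * n⁻¹ * h3⁻¹ = n * (h3 * n⁻¹ * h3⁻¹) := by group
      rw [h']
      exact A.mul_mem hnA this
    have e5 : h3 * (h1 : G)⁻¹ ∈ A := by
      have : h3 * (h1 : G)⁻¹ = (n * h3 * n⁻¹ * h3⁻¹)⁻¹ * (n * h3 * n⁻¹ * (h1 : G)⁻¹) := by group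
      rw [this]
      exact A.mul_mem (A.inv_mem e4) (hBA e3)
    have e6 : h3 * (h1 : G)⁻¹ = 1 := hdisj _ (H.mul_mem hh3H (H.inv_mem h1.2)) e5
    have e7 : h3 = h1 := mul_inv_eq_one.mp e6
    have e8 : (h1 : G) ≠ 1 := by
      intro h
      apply hx1
      rw [← hh1]
      have : h1 = 1 := Subtype.ext h
      rw [this, map_one]
    rw [e7] at e3
    have e9 := hfpf n hnA h1 h1.2 e8 e3
    apply hg
    refine ⟨⟨h0, hh0⟩, ?_⟩
    have : π ((Subgroup.inclusion hHT ⟨h0, hh0⟩) * t⁻¹) = 1 := by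
      rw [hπ1]
      show h0 * (t : G)⁻¹ ∈ B
      rw [ht]
      have hh : h0 * (n * h0)⁻¹ = n⁻¹ := by group
      rw [hh]
      exact B.inv_mem e9
    rw [map_mul, map_inv, mul_inv_eq_one] at this
    exact this


variable {G : Type u} [Group G] {H : Subgroup G}

theorem conj_of_card_aux [Finite G] {m : ℕ} (hTI : Cfsg.IsTISubset (H : Set G)) (hS : Split H m)
    (hm : (Nat.card H).Coprime m) (hHall : (Nat.card H).Coprime H.index)
    (H1 : Subgroup G) (hcard : Nat.card H1 = Nat.card H)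
    {z : G} (hz1 : z ≠ 1) (hzH : z ∈ H) (hzH1 : z ∈ H1) : ∃ c : G, ∀ y ∈ H1, c⁻¹ * y * c ∈ H := by
  have hpow : ∀ y ∈ H1, y ^ Nat.card H = 1 := by
    intro y hy
    have h1 : (⟨y, hy⟩ : H1) ^ Nat.card H1 = 1 := pow_card_eq_one'
    rw [← hcard]
    exact congrArg Subtype.val h1
  by_cases hD : H.subgroupOf H1 = ⊤
  · rw [Subgroup.subgroupOf_eq_top] at hD
    exact ⟨1, fun y hy => by simpa using hD hy⟩
  have hFrob : Cfsg.IsFrobeniusComplement (H.subgroupOf H1) := by
    refine ⟨?_, hD, ?_⟩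
    · intro hb
      have : (⟨z, hzH1⟩ : H1) ∈ H.subgroupOf H1 := Subgroup.mem_subgroupOf.mpr hzH
      rw [hb, Subgroup.mem_bot] at this
      exact hz1 (congrArg Subtype.val this)
    · intro g hg
      rw [Subgroup.eq_bot_iff_forall]
      intro x hx
      obtain ⟨hx1, hx2⟩ := Subgroup.mem_inf.mp hx
      obtain ⟨x', hx', hxx⟩ := hx2
      by_contra hxne
      have hxx' : g * x' * g⁻¹ = x := hxx
      have hx'1 : (x' : G) ≠ 1 := by
        intro h
        apply hxne
        have : x' = 1 := Subtype.ext h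
        rw [← hxx', this]; group
      have h1 : (g : G) * x' * (g : G)⁻¹ ∈ H := by
        have := Subgroup.mem_subgroupOf.mp hx1
        rw [← hxx'] at this
        exact this
      have h2 := ti_mem hTI (Subgroup.mem_subgroupOf.mp hx') hx'1 h1
      exact hg (Subgroup.mem_subgroupOf.mpr (mem_of_pow hS hm h2 (hpow g g.2)))
  obtain ⟨N, hNk, hNn, hNc⟩ := Cfsg.Agent.S0035.result _ hFrob
  obtain ⟨N', hN'k, -, hN'nil⟩ := Cfsg.Agent.S0042.result _ hFrob
  have hNN : N' = N := SetLike.coe_injective (hN'k.trans hNk.symm)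
  subst hNN
  have hNb : N' ≠ ⊥ := by
    intro hb
    have := hNc.sup_eq_top
    rw [hb, bot_sup_eq] at this
    exact hD this
  have : Nontrivial N' := (Subgroup.nontrivial_iff_ne_bot N').mpr hNb
  have hcen : center N' ≠ ⊥ := Group.IsNilpotent.center_ne_bot _
  have hcc : Nat.card (center N') ≠ 1 := by
    intro h
    exact hcen ((Subgroup.card_eq_one).mp h)
  set q := (Nat.card (center N')).minFac with hq
  have hqp : q.Prime := Nat.minFac_prime hcc
  have : Fact q.Prime := ⟨hqp⟩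
  obtain ⟨z0, hz0⟩ := exists_prime_orderOf_dvd_card' q (Nat.minFac_dvd (Nat.card (center N')))
  set z' : G := (((z0 : N') : H1) : G) with hz'
  have hoz : orderOf z' = q := by
    rw [hz', Subgroup.orderOf_coe, Subgroup.orderOf_coe, Subgroup.orderOf_coe, hz0]
  have hz'1 : z' ≠ 1 := by
    intro h
    rw [h, orderOf_one] at hoz
    exact hqp.one_lt.ne hoz
  obtain ⟨c, hc⟩ := exists_conj_le hTI hS hm hHall (N'.map H1.subtype) (z := z')
    (Subgroup.mem_map.mpr ⟨((z0 : N') : H1), (z0 : N').2, rfl⟩) hz'1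
    (by
      rintro _ ⟨y, hy, rfl⟩
      have := Subgroup.mem_center_iff.mp z0.2 ⟨y, hy⟩
      have h2 := congrArg (fun t : N' => ((t : H1) : G)) this
      exact h2)
    (by
      rintro _ ⟨y, hy, rfl⟩
      exact hpow y y.2)
    hqp
    (by
      apply IsPGroup.of_card (n := 1)
      rw [Nat.card_zpowers, hoz, pow_one])
  refine ⟨c, fun y hy => ?_⟩
  have hw : c⁻¹ * z' * c ∈ H := hc z' (Subgroup.mem_map.mpr ⟨((z0 : N') : H1), (z0 : N').2, rfl⟩)
  have hw1 : c⁻¹ * z' * c ≠ 1 := by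
    intro h
    apply hz'1
    have : z' = c * (c⁻¹ * z' * c) * c⁻¹ := by group
    rw [this, h]; group
  have hyz : y * z' * y⁻¹ ∈ N'.map H1.subtype := by
    have := hNn.conj_mem ((z0 : N') : H1) (z0 : N').2 ⟨y, hy⟩
    exact Subgroup.mem_map.mpr ⟨_, this, rfl⟩
  have h3 : (c⁻¹ * y * c) * (c⁻¹ * z' * c) * (c⁻¹ * y * c)⁻¹ ∈ H := by
    have : (c⁻¹ * y * c) * (c⁻¹ * z' * c) * (c⁻¹ * y * c)⁻¹ = c⁻¹ * (y * z' * y⁻¹) * c := by group
    rw [this]
    exact hc _ hyz
  refine mem_of_pow hS hm (ti_mem hTI hw hw1 h3) ?_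
  have : (c⁻¹ * y * c) ^ Nat.card H = c⁻¹ * y ^ Nat.card H * c := by
    have h4 : c⁻¹ * y * c = MulAut.conj c⁻¹ y := by simp [MulAut.conj_apply]
    rw [h4, ← map_pow]; simp [MulAut.conj_apply]
  rw [this, hpow y hy]; group

theorem conj_of_card [Finite G] {m : ℕ} (hTI : Cfsg.IsTISubset (H : Set G)) (hS : Split H m)
    (hm : (Nat.card H).Coprime m) (hHall : (Nat.card H).Coprime H.index)
    (H1 : Subgroup G) (hcard : Nat.card H1 = Nat.card H) : ∃ c : G, ∀ y ∈ H1, c⁻¹ * y * c ∈ H := by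
  have hpow : ∀ y ∈ H1, y ^ Nat.card H = 1 := by
    intro y hy
    have h1 : (⟨y, hy⟩ : H1) ^ Nat.card H1 = 1 := pow_card_eq_one'
    rw [← hcard]
    exact congrArg Subtype.val h1
  by_cases hb : Nat.card H1 = 1
  · rw [Subgroup.card_eq_one] at hb
    subst hb
    exact ⟨1, fun y hy => by rw [Subgroup.mem_bot.mp hy]; simp⟩
  set q := (Nat.card H1).minFac with hq
  have hqp : q.Prime := Nat.minFac_prime hb
  have : Fact q.Prime := ⟨hqp⟩
  obtain ⟨z0, hz0⟩ := exists_prime_orderOf_dvd_card' q (Nat.minFac_dvd (Nat.card H1))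
  have hoz : orderOf (z0 : G) = q := by rw [Subgroup.orderOf_coe, hz0]
  have hz1 : (z0 : G) ≠ 1 := by
    intro h
    rw [h, orderOf_one] at hoz
    exact hqp.one_lt.ne hoz
  obtain ⟨a, ha⟩ := exists_conj_le hTI hS hm hHall (zpowers (z0 : G)) (z := (z0 : G))
    (mem_zpowers _) hz1
    (by
      intro y hy
      obtain ⟨k, rfl⟩ := Subgroup.mem_zpowers_iff.mp hy
      exact (Commute.refl _).zpow_left k)
    (by
      intro y hy
      exact hpow y ((Subgroup.zpowers_le.mpr z0.2) hy))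
    hqp
    (by
      apply IsPGroup.of_card (n := 1)
      rw [Nat.card_zpowers, hoz, pow_one])
  have hza := ha _ (mem_zpowers _)
  obtain ⟨c, hc⟩ := conj_of_card_aux hTI hS hm hHall (H1.map (MulAut.conj a⁻¹).toMonoidHom)
    (by
      rw [Subgroup.card_map_of_injective (MulAut.conj a⁻¹).injective, hcard])
    (z := a⁻¹ * z0 * a)
    (by
      intro h
      apply hz1
      have : (z0 : G) = a * (a⁻¹ * z0 * a) * a⁻¹ := by group
      rw [this, h]; group)
    hza
    (Subgroup.mem_map.mpr ⟨z0, z0.2, by simp [MulAut.conj_apply]⟩)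
  refine ⟨a * c, fun y hy => ?_⟩
  have := hc (a⁻¹ * y * a) (Subgroup.mem_map.mpr ⟨y, hy, by simp [MulAut.conj_apply]⟩)
  have e : (a * c)⁻¹ * y * (a * c) = c⁻¹ * (a⁻¹ * y * a) * c := by group
  rw [e]; exact this


theorem exists_invariant_sylow [Finite G] {m : ℕ} (hTI : Cfsg.IsTISubset (H : Set G))
    (hS : Split H m) (hm : (Nat.card H).Coprime m) (hHall : (Nat.card H).Coprime H.index)
    (K : Subgroup G) (hKn : K.Normal) (hc : K.IsComplement' H) (r : ℕ) [Fact r.Prime] :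
    ∃ R : Subgroup G, R ≤ K ∧ Nat.card R = r ^ (Nat.card K).factorization r ∧
      H ≤ normalizer (R : Set G) := by
  obtain ⟨P⟩ : Nonempty (Sylow r K) := inferInstance
  set R' : Subgroup G := (P : Subgroup K).map K.subtype with hR'
  have hR'c : Nat.card R' = r ^ (Nat.card K).factorization r := by
    rw [hR', Subgroup.card_map_of_injective K.subtype_injective]
    exact P.card_eq_multiplicity
  have hR'K : R' ≤ K := Subgroup.map_subtype_le _
  set M : Subgroup G := normalizer (R' : Set G) with hM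
  have hMK : M ⊔ K = ⊤ := Sylow.normalizer_sup_eq_top P
  have hKi : K.index = Nat.card H := hc.symm.index_eq_card
  have hHi : H.index = Nat.card K := hc.index_eq_card
  have hidx : (K.subgroupOf M).index = Nat.card H := by
    have h1 : (K.subgroupOf M).index = K.relIndex M := rfl
    rw [h1, ← Subgroup.relIndex_sup_right, hMK, Subgroup.relIndex_top_right, hKi]
  have hcop : Nat.Coprime (Nat.card (K.subgroupOf M)) (K.subgroupOf M).index := by
    rw [hidx]
    have h1 : Nat.card (K.subgroupOf M) ∣ Nat.card K := by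
      have : Nat.card (K.subgroupOf M) = Nat.card (K ⊓ M : Subgroup G) := by
        rw [← Subgroup.card_map_of_injective M.subtype_injective, Subgroup.subgroupOf_map_subtype]
      rw [this]
      exact Subgroup.card_dvd_of_le inf_le_left
    rw [hHi] at hHall
    exact Nat.Coprime.coprime_dvd_left h1 hHall.symm
  have : (K.subgroupOf M).Normal := hKn.subgroupOf M
  obtain ⟨H1', hH1'⟩ := Subgroup.exists_right_complement'_of_coprime hcop
  set H1 : Subgroup G := H1'.map M.subtype with hH1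
  have hH1c : Nat.card H1 = Nat.card H := by
    rw [hH1, Subgroup.card_map_of_injective M.subtype_injective, ← hidx]
    exact hH1'.symm.index_eq_card.symm
  have hH1M : H1 ≤ M := Subgroup.map_subtype_le _
  obtain ⟨c, hcc⟩ := conj_of_card hTI hS hm hHall H1 hH1c
  have hle : H1.map (MulAut.conj c⁻¹).toMonoidHom ≤ H := by
    rintro _ ⟨y, hy, rfl⟩
    simpa [MulAut.conj_apply] using hcc y hy
  have heq : H1.map (MulAut.conj c⁻¹).toMonoidHom = H := by
    apply Subgroup.eq_of_le_of_card_ge hle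
    rw [Subgroup.card_map_of_injective (MulAut.conj c⁻¹).injective, hH1c]
  refine ⟨R'.map (MulAut.conj c⁻¹).toMonoidHom, ?_, ?_, ?_⟩
  · rintro _ ⟨y, hy, rfl⟩
    exact hKn.conj_mem y (hR'K hy) c⁻¹
  · rw [Subgroup.card_map_of_injective (MulAut.conj c⁻¹).injective, hR'c]
  · intro h hh
    rw [← heq] at hh
    obtain ⟨y, hy, rfl⟩ := hh
    have hyM := hH1M hy
    rw [Subgroup.mem_normalizer_iff]
    intro n
    have hmem : ∀ w : G, w ∈ R'.map (MulAut.conj c⁻¹).toMonoidHom ↔ c * w * c⁻¹ ∈ R' := by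
      intro w
      constructor
      · rintro ⟨v, hv, rfl⟩
        have : c * ((MulAut.conj c⁻¹).toMonoidHom v) * c⁻¹ = v := by
          simp [MulAut.conj_apply, mul_assoc]
        rw [this]; exact hv
      · intro hw
        exact ⟨c * w * c⁻¹, hw, by simp [MulAut.conj_apply, mul_assoc]⟩
    rw [hmem, hmem]
    have h1 := Subgroup.mem_normalizer_iff.mp hyM (c * n * c⁻¹)
    rw [h1]
    have e : c * ((MulAut.conj c⁻¹).toMonoidHom y * n * ((MulAut.conj c⁻¹).toMonoidHom y)⁻¹) * c⁻¹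
        = y * (c * n * c⁻¹) * y⁻¹ := by
      simp [MulAut.conj_apply, mul_assoc]
    rw [e]


theorem mem_normalizer_inf {X Y : Subgroup G} {h : G} (hX : h ∈ normalizer (X : Set G))
    (hY : h ∈ Y) : h ∈ normalizer ((X ⊓ Y : Subgroup G) : Set G) := by
  rw [Subgroup.mem_normalizer_iff]
  intro n
  rw [Subgroup.mem_inf, Subgroup.mem_inf, ← Subgroup.mem_normalizer_iff.mp hX n]
  have : n ∈ Y ↔ h * n * h⁻¹ ∈ Y := by
    rw [Subgroup.mul_mem_cancel_right Y (Y.inv_mem hY), Subgroup.mul_mem_cancel_left Y hY]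
  rw [this]

theorem frob_compl [Finite G] {m : ℕ} (hTI : Cfsg.IsTISubset (H : Set G))
    (hS : Split H m) (hm : (Nat.card H).Coprime m) (hHall : (Nat.card H).Coprime H.index)
    (K : Subgroup G) (hKn : K.Normal) (hc : K.IsComplement' H) (hnn : ¬ H.Normal) :
    ∃ (F : Type u) (_ : Group F) (_ : Finite F) (C : Subgroup F),
      Cfsg.IsFrobeniusComplement C ∧ Nonempty (H ≃* C) := by
  set N1 : Subgroup G := normalizer (H : Set G) with hN1
  have hKN : ¬ K ≤ N1 := by
    intro h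
    apply hnn
    rw [← Subgroup.normalizer_eq_top_iff, ← hN1, eq_top_iff, ← hc.sup_eq_top]
    exact sup_le h Subgroup.le_normalizer
  have hHi : H.index = Nat.card K := hc.index_eq_card
  have hcopHK : (Nat.card H).Coprime (Nat.card K) := hHi ▸ hHall
  have hdisjKH : ∀ x ∈ K, x ∈ H → x = 1 := fun x h1 h2 => Subgroup.disjoint_def.mp hc.disjoint h1 h2
  obtain ⟨r, hr, hlt⟩ : ∃ r : ℕ, r.Prime ∧
      (Nat.card (K ⊓ N1 : Subgroup G)).factorization r < (Nat.card K).factorization r := by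
    by_contra hcon
    push Not at hcon
    have h1 : Nat.card K ∣ Nat.card (K ⊓ N1 : Subgroup G) :=
      (Nat.factorization_prime_le_iff_dvd Nat.card_pos.ne' Nat.card_pos.ne').mp hcon
    have h2 : (K ⊓ N1 : Subgroup G) = K :=
      Subgroup.eq_of_le_of_card_ge inf_le_left (Nat.le_of_dvd Nat.card_pos h1)
    exact hKN (h2 ▸ inf_le_right)
  have : Fact r.Prime := ⟨hr⟩
  obtain ⟨R, hRK, hRc, hHR⟩ := exists_invariant_sylow hTI hS hm hHall K hKn hc r
  have hRN : ¬ R ≤ N1 := by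
    intro h
    have h1 : Nat.card R ∣ Nat.card (K ⊓ N1 : Subgroup G) := Subgroup.card_dvd_of_le (le_inf hRK h)
    rw [hRc] at h1
    have := (hr.pow_dvd_iff_le_factorization Nat.card_pos.ne').mp h1
    omega
  set R0 : Subgroup G := R ⊓ N1 with hR0
  have hHN1 : H ≤ N1 := Subgroup.le_normalizer
  have hHB : H ≤ normalizer (R0 : Set G) := fun h hh => mem_normalizer_inf (hHR hh) (hHN1 hh)
  apply frob_of_section (R ⊓ normalizer (R0 : Set G)) R0 H (le_inf inf_le_left Subgroup.le_normalizer)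
    ?_ inf_le_right (fun h hh => mem_normalizer_inf (hHR hh) (hHB hh)) hHB
    (fun h hh hA => hdisjKH h (hRK hA.1) hh) ?_ ?_
  · -- normaliser condition
    have hP : IsPGroup r R := IsPGroup.of_card hRc
    have : Group.IsNilpotent R := hP.isNilpotent
    have hnc : NormalizerCondition R := Group.normalizerCondition_of_isNilpotent
    have hlt' : R0.subgroupOf R < ⊤ := by
      rw [lt_top_iff_ne_top]
      intro h
      rw [Subgroup.subgroupOf_eq_top] at h
      exact hRN (h.trans inf_le_right)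
    obtain ⟨x, hx1, hx2⟩ := SetLike.exists_of_lt (hnc _ hlt')
    refine ⟨x, Subgroup.mem_inf.mpr ⟨x.2, ?_⟩, fun h => hx2 (Subgroup.mem_subgroupOf.mpr h)⟩
    rw [Subgroup.mem_normalizer_iff]
    intro g
    constructor
    · intro hg
      have := (Subgroup.mem_normalizer_iff.mp hx1 ⟨g, hg.1⟩).mp (Subgroup.mem_subgroupOf.mpr hg)
      exact Subgroup.mem_subgroupOf.mp this
    · intro hg
      have hgR : g ∈ R := by
        have : g = (x : G)⁻¹ * ((x : G) * g * (x : G)⁻¹) * x := by group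
        rw [this]
        exact R.mul_mem (R.mul_mem (R.inv_mem x.2) hg.1) x.2
      have := (Subgroup.mem_normalizer_iff.mp hx1 ⟨g, hgR⟩).mpr (Subgroup.mem_subgroupOf.mpr hg)
      exact Subgroup.mem_subgroupOf.mp this
  · intro hb
    apply hnn
    rw [hb]; infer_instance
  · intro n hn h hh hh1 hρ
    set ρ : G := n * h * n⁻¹ * h⁻¹ with hρd
    have hρK : ρ ∈ K := hRK hρ.1
    have hρN : ρ ∈ N1 := hρ.2
    have hcomm : Commute ρ h := by
      have h1 : ρ * h * ρ⁻¹ ∈ H := (Subgroup.mem_normalizer_iff.mp hρN h).mp hh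
      have h2 : ρ * h * ρ⁻¹ * h⁻¹ ∈ H := H.mul_mem h1 (H.inv_mem hh)
      have h3 : ρ * h * ρ⁻¹ * h⁻¹ ∈ K := by
        have : ρ * h * ρ⁻¹ * h⁻¹ = ρ * (h * ρ⁻¹ * h⁻¹) := by group
        rw [this]
        exact K.mul_mem hρK (hKn.conj_mem _ (K.inv_mem hρK) h)
      have h4 := hdisjKH _ h3 h2
      have h5 : ρ * h = h * ρ := by
        have : ρ * h = (ρ * h * ρ⁻¹ * h⁻¹) * (h * ρ) := by group
        rw [this, h4, one_mul]
      exact h5
    have hhp : h ^ Nat.card H = 1 := by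
      have : (⟨h, hh⟩ : H) ^ Nat.card H = 1 := pow_card_eq_one'
      exact congrArg Subtype.val this
    have e1 : n * h * n⁻¹ = ρ * h := by rw [hρd]; group
    have e2 : (n * h * n⁻¹) ^ Nat.card H = 1 := by
      rw [conj_pow, hhp]; group
    rw [e1, hcomm.mul_pow, hhp, mul_one] at e2
    have e3 : ρ ^ Nat.card K = 1 := by
      have : (⟨ρ, hρK⟩ : K) ^ Nat.card K = 1 := pow_card_eq_one'
      exact congrArg Subtype.val this
    have e4 : orderOf ρ = 1 := Nat.eq_one_of_dvd_coprimes hcopHK (orderOf_dvd_of_pow_eq_one e2)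
      (orderOf_dvd_of_pow_eq_one e3)
    rw [orderOf_eq_one_iff] at e4
    rw [e4, one_mul] at e1
    exact ⟨hn.1, ti_mem hTI hh hh1 (by rw [e1]; exact hh)⟩

end Cfsg.Agent.Lib.Lead.TIHall
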