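import Mathlib
import Cfsg.Agent.Lib.Lead.TIHall2
import Cfsg.Agent.S0040

set_option autoImplicit false

namespace Cfsg.Agent.Lib.Lead.TIHall
open Subgroup

universe u

theorem sylow2_comm_of_equiv {H C : Type*} [Group H] [Group C] [Finite H] (e : H ≃* C)
    (h2 : ∀ P : Sylow 2 H, IsMulCommutative (P : Subgroup H)) (P : Sylow 2 C) :
    IsMulCommutative (P : Subgroup C) := by
  have hP' : IsPGroup 2 ((P : Subgroup C).map e.symm.toMonoidHom) := P.2.map _
  obtain ⟨S, hS⟩ := hP'.exists_le_sylow
  refine ⟨⟨fun a b => ?_⟩⟩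
  have ha : e.symm a ∈ (S : Subgroup H) := hS ⟨a, a.2, rfl⟩
  have hb : e.symm b ∈ (S : Subgroup H) := hS ⟨b, b.2, rfl⟩
  have h := (h2 S).is_comm.comm ⟨_, ha⟩ ⟨_, hb⟩
  have h' : e.symm a * e.symm b = e.symm b * e.symm a := congrArg Subtype.val h
  rw [← map_mul, ← map_mul] at h'
  exact Subtype.ext (e.symm.injective h')

theorem isZGroup_of_frob {F : Type*} [Group F] [Finite F] (C : Subgroup F)
    (hC : Cfsg.IsFrobeniusComplement C)
    (h2 : ∀ P : Sylow 2 C, IsMulCommutative (P : Subgroup C)) : IsZGroup C := by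
  obtain ⟨N, -, hNn, hNc⟩ := Cfsg.Agent.S0035.result C hC
  have hNb : N ≠ ⊥ := by
    intro hb
    have := hNc.sup_eq_top
    rw [hb, bot_sup_eq] at this
    exact hC.2.1 this
  have hfpf := (Cfsg.Agent.S0039.result N C hNc hNb hC.1).mp hC
  rw [isZGroup_iff]
  intro p hp P
  have : Fact p.Prime := ⟨hp⟩
  rcases Cfsg.Agent.S0040.result N C hNc hNb hfpf p P with h | ⟨n, ⟨e⟩⟩
  · exact h
  · have : NeZero (2 ^ n) := ⟨by positivity⟩
    have hcard : Nat.card P = 4 * 2 ^ n := by
      rw [Nat.card_congr e.toEquiv, Nat.card_eq_fintype_card, QuaternionGroup.card]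
    obtain ⟨k, hk⟩ := IsPGroup.iff_card.mp P.2
    have hp2 : p = 2 := by
      have hk0 : k ≠ 0 := by
        rintro rfl
        rw [pow_zero] at hk
        have : 0 < 2 ^ n := by positivity
        omega
      have h1 : p ∣ 2 ^ (n + 2) := by
        have : 2 ^ (n + 2) = 4 * 2 ^ n := by ring
        rw [this, ← hcard, hk]
        exact dvd_pow_self p hk0
      exact (Nat.prime_dvd_prime_iff_eq hp Nat.prime_two).mp (hp.dvd_of_dvd_pow h1)
    subst hp2
    have hcomm := h2 P
    by_cases hn : n = 0
    · subst hn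
      have hc : IsCyclic (QuaternionGroup (2 ^ 0)) := by
        rw [pow_zero]; exact QuaternionGroup.quaternionGroup_one_isCyclic
      exact isCyclic_of_surjective e.symm e.symm.surjective
    · exfalso
      have h := hcomm.is_comm.comm (e.symm (QuaternionGroup.a 1)) (e.symm (QuaternionGroup.xa 0))
      rw [← map_mul, ← map_mul] at h
      have h' := e.symm.injective h
      simp only [QuaternionGroup.a_mul_xa, QuaternionGroup.xa_mul_a, QuaternionGroup.xa.injEq] at h'
      have h3 : ((2 : ℕ) : ZMod (2 * 2 ^ n)) = 0 := by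
        have : (2 : ZMod (2 * 2 ^ n)) = (0 + 1) - (0 - 1) := by ring
        push_cast
        rw [this, h']; ring
      rw [ZMod.natCast_eq_zero_iff] at h3
      have h4 := Nat.le_of_dvd (by norm_num) h3
      have h5 : 2 ≤ 2 ^ n := by
        calc 2 = 2 ^ 1 := by norm_num
          _ ≤ 2 ^ n := Nat.pow_le_pow_right (by norm_num) (by omega)
      omega


variable {G : Type u} [Group G] {H : Subgroup G}

theorem frob_of_normal [Finite G] (hTI : Cfsg.IsTISubset (H : Set G)) (Y : Subgroup G)
    (hYn : Y.Normal) (hYc : (Nat.card Y).Coprime (Nat.card H))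
    (hY : ¬ Y ≤ normalizer (H : Set G)) :
    ∃ (F : Type u) (_ : Group F) (_ : Finite F) (C : Subgroup F),
      Cfsg.IsFrobeniusComplement C ∧ Nonempty (H ≃* C) := by
  set Γ : Subgroup G := Y ⊔ H with hΓ
  have hYΓ : Y ≤ Γ := le_sup_left
  have hHΓ : H ≤ Γ := le_sup_right
  set H' : Subgroup Γ := H.subgroupOf Γ with hH'
  set Y' : Subgroup Γ := Y.subgroupOf Γ with hY'
  have hdisj : ∀ x ∈ Y, x ∈ H → x = 1 := by
    intro x h1 h2
    have := Subgroup.disjoint_def.mp (Subgroup.disjoint_of_coprime_natCard hYc) h1 h2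
    exact this
  have hdec : ∀ t ∈ Γ, ∃ y ∈ Y, ∃ h ∈ H, t = y * h := by
    intro t ht
    have h1 : t ∈ ((Y ⊔ H : Subgroup G) : Set G) := ht
    rw [Subgroup.normal_mul] at h1
    obtain ⟨n, hn, h, hh, rfl⟩ := h1
    exact ⟨n, hn, h, hh, rfl⟩
  have hH'c : Nat.card H' = Nat.card H := Nat.card_congr (Subgroup.subgroupOfEquivOfLe hHΓ).toEquiv
  have hY'c : Nat.card Y' = Nat.card Y := Nat.card_congr (Subgroup.subgroupOfEquivOfLe hYΓ).toEquiv
  have hnorm : ∀ g : Γ, g ∈ normalizer (H' : Set Γ) ↔ (g : G) ∈ normalizer (H : Set G) := by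
    intro g
    rw [Subgroup.mem_normalizer_iff, Subgroup.mem_normalizer_iff]
    constructor
    · intro h n
      constructor
      · intro hn
        exact Subgroup.mem_subgroupOf.mp ((h ⟨n, hHΓ hn⟩).mp (Subgroup.mem_subgroupOf.mpr hn))
      · intro hn
        have hnΓ : n ∈ Γ := by
          have : n = (g : G)⁻¹ * ((g : G) * n * (g : G)⁻¹) * g := by group
          rw [this]
          exact Γ.mul_mem (Γ.mul_mem (Γ.inv_mem g.2) (hHΓ hn)) g.2
        exact Subgroup.mem_subgroupOf.mp ((h ⟨n, hnΓ⟩).mpr (Subgroup.mem_subgroupOf.mpr hn))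
    · intro h n
      exact h (n : G)
  have hTI' : Cfsg.IsTISubset (H' : Set Γ) := by
    intro g hg x hx hgx
    have h1 : (g : G) ∉ normalizer (H : Set G) := fun h => hg ((hnorm g).mpr h)
    exact Subtype.ext (hTI g h1 x (Subgroup.mem_subgroupOf.mp hx) (Subgroup.mem_subgroupOf.mp hgx))
  have hS' : Split H' (Nat.card Y) := by
    intro g hg
    obtain ⟨y, hy, h, hh, hgyh⟩ := hdec g g.2
    have hgN := (hnorm g).mp hg
    have hyN : y ∈ normalizer (H : Set G) := by
      have : y = (g : G) * h⁻¹ := by rw [hgyh]; group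
      rw [this]
      exact Subgroup.mul_mem _ hgN (Subgroup.inv_mem _ (Subgroup.le_normalizer hh))
    refine ⟨⟨y, hYΓ hy⟩, ⟨h, hHΓ hh⟩, Subgroup.mem_subgroupOf.mpr hh, ?_, ?_, Subtype.ext hgyh⟩
    · intro w hw
      have hwH : (w : G) ∈ H := Subgroup.mem_subgroupOf.mp hw
      have h1 : y * w * y⁻¹ ∈ H := (Subgroup.mem_normalizer_iff.mp hyN w).mp hwH
      have h2 : y * w * y⁻¹ * (w : G)⁻¹ ∈ H := H.mul_mem h1 (H.inv_mem hwH)
      have h3 : y * w * y⁻¹ * (w : G)⁻¹ ∈ Y := by
        have : y * w * y⁻¹ * (w : G)⁻¹ = y * ((w : G) * y⁻¹ * (w : G)⁻¹) := by group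
        rw [this]
        exact Y.mul_mem hy (hYn.conj_mem _ (Y.inv_mem hy) w)
      have h4 := hdisj _ h3 h2
      apply Subtype.ext
      show y * (w : G) = w * y
      have : y * (w : G) = (y * w * y⁻¹ * (w : G)⁻¹) * (w * y) := by group
      rw [this, h4, one_mul]
    · apply Subtype.ext
      have : (⟨y, hy⟩ : Y) ^ Nat.card Y = 1 := pow_card_eq_one'
      have h2 : y ^ Nat.card Y = 1 := congrArg Subtype.val this
      exact h2
  have hm' : (Nat.card H').Coprime (Nat.card Y) := by rw [hH'c]; exact hYc.symm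
  have hYn' : Y'.Normal := hYn.subgroupOf Γ
  have hc' : Y'.IsComplement' H' := by
    apply Subgroup.isComplement'_of_disjoint_and_mul_eq_univ
    · rw [Subgroup.disjoint_def]
      intro x hx1 hx2
      exact Subtype.ext (hdisj x (Subgroup.mem_subgroupOf.mp hx1) (Subgroup.mem_subgroupOf.mp hx2))
    · rw [Set.eq_univ_iff_forall]
      intro g
      obtain ⟨y, hy, h, hh, hgyh⟩ := hdec g g.2
      exact ⟨⟨y, hYΓ hy⟩, Subgroup.mem_subgroupOf.mpr hy, ⟨h, hHΓ hh⟩,
        Subgroup.mem_subgroupOf.mpr hh, Subtype.ext hgyh.symm⟩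
  have hHall' : (Nat.card H').Coprime H'.index := by
    rw [hc'.index_eq_card, hY'c]; exact hm'
  have hnn' : ¬ H'.Normal := by
    intro hn
    apply hY
    intro y hy
    have : (⟨y, hYΓ hy⟩ : Γ) ∈ normalizer (H' : Set Γ) := by
      rw [Subgroup.normalizer_eq_top_iff.mpr hn]; trivial
    exact (hnorm _).mp this
  obtain ⟨F, iF, iF', C, hC, ⟨e⟩⟩ := frob_compl hTI' hS' hm' hHall' Y' hYn' hc' hnn'
  exact ⟨F, iF, iF', C, hC, ⟨(Subgroup.subgroupOfEquivOfLe hHΓ).symm.trans e⟩⟩


theorem exists_normal_not_le [Finite G] (hTI : Cfsg.IsTISubset (H : Set G)) (hnn : ¬ H.Normal)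
    (hHallG : (Nat.card H).Coprime H.index)
    (hsep : ∃ (n : ℕ) (M : Fin (n + 1) → Subgroup G), M 0 = ⊥ ∧ M (Fin.last n) = ⊤ ∧ Monotone M ∧
      (∀ i, (M i).Normal) ∧
      ∀ i : Fin n, (∀ q : ℕ, q.Prime → q ∣ (M i.castSucc).relIndex (M i.succ) → q ∣ Nat.card H) ∨
        ((M i.castSucc).relIndex (M i.succ)).Coprime (Nat.card H)) :
    ∃ Y : Subgroup G, Y.Normal ∧ (Nat.card Y).Coprime (Nat.card H) ∧
      ¬ Y ≤ normalizer (H : Set G) := by
  by_contra hcon
  push Not at hcon
  obtain ⟨n, M, h0, hlast, hmono, hnorm, hstep⟩ := hsep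
  have key : ∀ i : Fin (n + 1), (Nat.card (M i)).Coprime (Nat.card H) := by
    intro i
    induction i using Fin.induction with
    | zero => rw [h0, Subgroup.card_bot]; exact Nat.coprime_one_left _
    | succ i ih =>
      set A := M i.castSucc with hA
      set B := M i.succ with hB
      have hAn : A.Normal := hnorm _
      have hBn : B.Normal := hnorm _
      have hAB : A ≤ B := hmono (Fin.castSucc_lt_succ).le
      set k := A.relIndex B with hk
      have hcB : Nat.card B = Nat.card A * k := by
        rw [← (A.subgroupOf B).card_mul_index]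
        congr 1
        exact Nat.card_congr (Subgroup.subgroupOfEquivOfLe hAB).toEquiv
      rcases hstep i with hπ | hπ'
      · have hAN := hcon A hAn ih
        have hdisj : ∀ x ∈ A, x ∈ H → x = 1 := fun x h1 h2 =>
          Subgroup.disjoint_def.mp (Subgroup.disjoint_of_coprime_natCard ih) h1 h2
        have hcomm : ∀ a ∈ A, ∀ w ∈ H, a * w = w * a := by
          intro a ha w hw
          have h1 : a * w * a⁻¹ ∈ H := (Subgroup.mem_normalizer_iff.mp (hAN ha) w).mp hw
          have h2 : a * w * a⁻¹ * w⁻¹ ∈ H := H.mul_mem h1 (H.inv_mem hw)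
          have h3 : a * w * a⁻¹ * w⁻¹ ∈ A := by
            have : a * w * a⁻¹ * w⁻¹ = a * (w * a⁻¹ * w⁻¹) := by group
            rw [this]
            exact A.mul_mem ha (hAn.conj_mem _ (A.inv_mem ha) w)
          have h4 := hdisj _ h3 h2
          have : a * w = (a * w * a⁻¹ * w⁻¹) * (w * a) := by group
          rw [this, h4, one_mul]
        set D0 : Subgroup G := H ⊓ B with hD0
        set j := H.relIndex B with hj
        have hcB' : Nat.card B = Nat.card D0 * j := by
          rw [← (H.subgroupOf B).card_mul_index]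
          congr 1
          rw [← Subgroup.card_map_of_injective B.subtype_injective, Subgroup.subgroupOf_map_subtype]
        have hjd : j ∣ H.index := by
          have c1 : Nat.card (H ⊔ B : Subgroup G) = Nat.card B * B.relIndex H := by
            rw [← Subgroup.relIndex_sup_right H B,
              ← (B.subgroupOf (H ⊔ B)).card_mul_index]
            congr 1
            exact Nat.card_congr (Subgroup.subgroupOfEquivOfLe le_sup_right).toEquiv
          have c2 : Nat.card H = Nat.card D0 * B.relIndex H := by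
            rw [← (B.subgroupOf H).card_mul_index]
            congr 1
            rw [← Subgroup.card_map_of_injective H.subtype_injective,
              Subgroup.subgroupOf_map_subtype, inf_comm]
          have c3 : Nat.card (H ⊔ B : Subgroup G) = j * Nat.card H := by
            rw [c1, c2, hcB']; ring
          have c4 : Nat.card (H ⊔ B : Subgroup G) ∣ Nat.card G := Subgroup.card_subgroup_dvd_card _
          rw [c3, ← H.card_mul_index, mul_comm] at c4
          exact (Nat.mul_dvd_mul_iff_left Nat.card_pos).mp c4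
        have hkj : k.Coprime j := by
          rw [Nat.coprime_iff_gcd_eq_one]
          by_contra hne
          obtain ⟨q, hq, hqd⟩ := Nat.exists_prime_and_dvd hne
          have h1 := hπ q hq (hqd.trans (Nat.gcd_dvd_left _ _))
          have h2 := (hqd.trans (Nat.gcd_dvd_right _ _)).trans hjd
          exact hq.one_lt.ne' (Nat.eq_one_of_dvd_coprimes hHallG h1 h2)
        have hkD : k ∣ Nat.card D0 := by
          apply hkj.dvd_of_dvd_mul_right
          rw [← hcB', hcB]
          exact Dvd.intro_left _ rfl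
        have hD0H : D0 ≤ H := inf_le_left
        have hAk : (Nat.card A).Coprime k :=
          Nat.Coprime.coprime_dvd_right (hkD.trans (Subgroup.card_dvd_of_le hD0H)) ih
        have hBeq : A ⊔ D0 = B := by
          apply Subgroup.eq_of_le_of_card_ge (sup_le hAB inf_le_right)
          rw [hcB]
          apply Nat.le_of_dvd Nat.card_pos
          exact hAk.mul_dvd_of_dvd_of_dvd (Subgroup.card_dvd_of_le le_sup_left)
            (hkD.trans (Subgroup.card_dvd_of_le le_sup_right))
        have hconj : ∀ g : G, ∀ x ∈ D0, g * x * g⁻¹ ∈ H := by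
          intro g x hx
          have h1 : g * x * g⁻¹ ∈ B := hBn.conj_mem x hx.2 g
          rw [← hBeq] at h1
          have h1' : g * x * g⁻¹ ∈ ((A ⊔ D0 : Subgroup G) : Set G) := h1
          rw [Subgroup.normal_mul] at h1'
          obtain ⟨a, ha, d, hd, had⟩ := h1'
          have hdH : d ∈ H := hD0H hd
          have hpw : ∀ w ∈ H, w ^ Nat.card H = 1 := by
            intro w hw
            have : (⟨w, hw⟩ : H) ^ Nat.card H = 1 := pow_card_eq_one'
            exact congrArg Subtype.val this
          have e1 : (a * d) ^ Nat.card H = a ^ Nat.card H := by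
            have hc : Commute a d := hcomm a ha d hdH
            rw [hc.mul_pow, hpw d hdH, mul_one]
          have e2 : (a * d) ^ Nat.card H = 1 := by
            have had' : a * d = g * x * g⁻¹ := had
            rw [had', conj_pow, hpw x (hD0H hx)]; group
          rw [e1] at e2
          have e3 : a ^ Nat.card A = 1 := by
            have : (⟨a, ha⟩ : A) ^ Nat.card A = 1 := pow_card_eq_one'
            exact congrArg Subtype.val this
          have e4 : orderOf a = 1 := Nat.eq_one_of_dvd_coprimes ih (orderOf_dvd_of_pow_eq_one e3)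
            (orderOf_dvd_of_pow_eq_one e2)
          rw [orderOf_eq_one_iff] at e4
          have had' : a * d = g * x * g⁻¹ := had
          rw [← had', e4, one_mul]; exact hdH
        have hD0b : D0 = ⊥ := by
          by_contra hne
          obtain ⟨x, hx⟩ := Subgroup.ne_bot_iff_exists_ne_one.mp hne
          apply hnn
          rw [← Subgroup.normalizer_eq_top_iff, eq_top_iff]
          intro g _
          exact ti_mem hTI (hD0H x.2) (fun h => hx (Subtype.ext h)) (hconj g x x.2)
        rw [hD0b, Subgroup.card_bot, Nat.dvd_one] at hkD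
        rw [hcB, hkD, mul_one]
        exact ih
      · rw [hcB]
        exact Nat.Coprime.mul_left ih hπ'
  have h1 := key (Fin.last n)
  rw [hlast] at h1
  have h2 : Nat.card H ∣ Nat.card (⊤ : Subgroup G) := Subgroup.card_dvd_of_le le_top
  have h3 : Nat.card H = 1 := Nat.eq_one_of_dvd_coprimes h1 h2 dvd_rfl
  apply hnn
  rw [Subgroup.card_eq_one.mp h3]
  infer_instance

end Cfsg.Agent.Lib.Lead.TIHall
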