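import Mathlib
import Cfsg.Agent.Lib.Lead.TIHall2
import Cfsg.Agent.S0004
import Cfsg.Agent.S0005
import Cfsg.Agent.Lib.Helper1.CoprimeSylow
import Cfsg.Agent.Lib.Helper1.CoprimeAbelian

set_option autoImplicit false

namespace Cfsg.Agent.Lib.Lead.TIHall
open Subgroup

universe u
variable {G : Type u} [Group G] {H Q : Subgroup G}

/-- a `π`-element of the normaliser lies in `H`. -/
theorem mem_of_pow' [Finite G]
    (hHall : (Nat.card H).Coprime (H.subgroupOf (normalizer (H : Set G))).index) {y : G}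
    (hy : y ∈ normalizer (H : Set G)) (hyp : y ^ Nat.card H = 1) : y ∈ H := by
  have hn : (H.subgroupOf (normalizer (H : Set G))).Normal := Subgroup.normal_in_normalizer
  set π := QuotientGroup.mk' (H.subgroupOf (normalizer (H : Set G))) with hπ
  have h1 : (π ⟨y, hy⟩) ^ Nat.card H = 1 := by
    rw [← map_pow]
    have : (⟨y, hy⟩ : normalizer (H : Set G)) ^ Nat.card H = 1 := Subtype.ext hyp
    rw [this, map_one]
  have h2 : (π ⟨y, hy⟩) ^ (H.subgroupOf (normalizer (H : Set G))).index = 1 := by
    rw [Subgroup.index_eq_card]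
    exact pow_card_eq_one'
  have h3 : orderOf (π ⟨y, hy⟩) = 1 := Nat.eq_one_of_dvd_coprimes hHall
    (orderOf_dvd_of_pow_eq_one h1) (orderOf_dvd_of_pow_eq_one h2)
  rw [orderOf_eq_one_iff, hπ, QuotientGroup.mk'_apply, QuotientGroup.eq_one_iff] at h3
  exact Subgroup.mem_subgroupOf.mp h3

theorem coprime_compl [Finite G]
    (hHall : (Nat.card H).Coprime (H.subgroupOf (normalizer (H : Set G))).index)
    (hQ : Q ≤ normalizer (H : Set G)) (hQH : Q ⊓ H = ⊥) : (Nat.card Q).Coprime (Nat.card H) := by
  have hn : (H.subgroupOf (normalizer (H : Set G))).Normal := Subgroup.normal_in_normalizer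
  let f : Q →* (normalizer (H : Set G)) ⧸ (H.subgroupOf (normalizer (H : Set G))) :=
    (QuotientGroup.mk' _).comp (Subgroup.inclusion hQ)
  have hf : Function.Injective f := by
    rw [injective_iff_map_eq_one]
    intro q hq
    have h1 : (Subgroup.inclusion hQ q) ∈ H.subgroupOf (normalizer (H : Set G)) :=
      (QuotientGroup.eq_one_iff _).mp hq
    have h2 : (q : G) ∈ Q ⊓ H := ⟨q.2, Subgroup.mem_subgroupOf.mp h1⟩
    rw [hQH, Subgroup.mem_bot] at h2
    exact Subtype.ext h2
  have h1 := Subgroup.card_dvd_of_injective f hf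
  rw [← Subgroup.index_eq_card] at h1
  exact (Nat.Coprime.coprime_dvd_right h1 hHall).symm

theorem solvable_of_le {A B : Subgroup G} (h : A ≤ B) [Group.IsSolvable B] : Group.IsSolvable A :=
  Group.isSolvable_of_isSolvable_injective (Subgroup.inclusion_injective h)

theorem mem_normalizer_inf' {X Y : Subgroup G} {h : G} (hX : h ∈ normalizer (X : Set G))
    (hY : h ∈ normalizer (Y : Set G)) : h ∈ normalizer ((X ⊓ Y : Subgroup G) : Set G) := by
  rw [Subgroup.mem_normalizer_iff]
  intro n
  rw [Subgroup.mem_inf, Subgroup.mem_inf, ← Subgroup.mem_normalizer_iff.mp hX n,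
    ← Subgroup.mem_normalizer_iff.mp hY n]

/-- the centraliser of `x` in `H` -/
theorem fusion_aux [Finite G] (hQ : Q ≤ normalizer (H : Set G))
    (hcop : (Nat.card Q).Coprime (Nat.card H)) [Group.IsSolvable H]
    {x y h : G} (hx : x ∈ centralizer (Q : Set G)) (hy : y ∈ centralizer (Q : Set G))
    (hh : h ∈ H) (hxy : h * x * h⁻¹ = y) :
    ∃ d ∈ H ⊓ centralizer (Q : Set G), d * x * d⁻¹ = y := by
  set N : Subgroup G := H ⊓ centralizer ({x} : Set G) with hN
  have hNH : N ≤ H := inf_le_left
  have hxq : ∀ a ∈ Q, a * x = x * a := fun a ha => (Subgroup.mem_centralizer_iff.mp hx a ha)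
  have hyq : ∀ a ∈ Q, a * y = y * a := fun a ha => (Subgroup.mem_centralizer_iff.mp hy a ha)
  have hcx : ∀ g : G, g ∈ centralizer ({x} : Set G) ↔ g * x = x * g := by
    intro g
    rw [Subgroup.mem_centralizer_singleton_iff]
  have hAN : Q ≤ normalizer (N : Set G) := by
    intro a ha
    refine mem_normalizer_inf' (hQ ha) ?_
    rw [Subgroup.mem_normalizer_iff]
    intro n
    rw [hcx, hcx]
    have e := hxq a ha
    constructor
    · intro h1
      calc a * n * a⁻¹ * x = a * n * (a⁻¹ * x * a) * a⁻¹ := by group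
        _ = a * n * (a⁻¹ * (a * x)) * a⁻¹ := by rw [e]; group
        _ = a * (n * x) * a⁻¹ := by group
        _ = a * (x * n) * a⁻¹ := by rw [h1]
        _ = (a * x) * n * a⁻¹ := by group
        _ = x * (a * n * a⁻¹) := by rw [e]; group
    · intro h1
      calc n * x = a⁻¹ * (a * n * a⁻¹ * (a * x)) := by group
        _ = a⁻¹ * ((a * n * a⁻¹ * x) * a) := by rw [e]; group
        _ = a⁻¹ * ((x * (a * n * a⁻¹)) * a) := by rw [h1]
        _ = a⁻¹ * (x * a) * n := by group
        _ = x * n := by rw [← e]; group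
  have hsolv : Group.IsSolvable N := solvable_of_le hNH
  obtain ⟨c, hc, hcN⟩ := Cfsg.Agent.Lib.Helper1.coset_fixed_point Q N hAN
    (Nat.Coprime.coprime_dvd_right (Subgroup.card_dvd_of_le hNH) hcop) (Or.inr hsolv) h
    (by
      intro a ha
      refine Subgroup.mem_inf.mpr
        ⟨H.mul_mem (H.inv_mem hh) ((Subgroup.mem_normalizer_iff.mp (hQ ha) h).mp hh), ?_⟩
      rw [hcx]
      have e := hxq a ha
      have e' := hyq a ha
      have k1 : a * h * a⁻¹ * x = y * (a * h * a⁻¹) := by
        calc a * h * a⁻¹ * x = a * h * (a⁻¹ * (x * a)) * a⁻¹ := by group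
          _ = a * h * (a⁻¹ * (a * x)) * a⁻¹ := by rw [e]
          _ = a * (h * x * h⁻¹) * h * a⁻¹ := by group
          _ = (a * y) * h * a⁻¹ := by rw [hxy]
          _ = y * (a * h * a⁻¹) := by rw [e']; group
      calc h⁻¹ * (a * h * a⁻¹) * x = h⁻¹ * (a * h * a⁻¹ * x) := by group
        _ = h⁻¹ * (y * (a * h * a⁻¹)) := by rw [k1]
        _ = h⁻¹ * (h * x * h⁻¹ * (a * h * a⁻¹)) := by rw [hxy]
        _ = x * (h⁻¹ * (a * h * a⁻¹)) := by group)
  have hcH : c ∈ H := by
    have : c = h * (h⁻¹ * c) := by group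
    rw [this]
    exact H.mul_mem hh (hNH hcN)
  refine ⟨c, ⟨hcH, hc⟩, ?_⟩
  have e := (hcx _).mp hcN.2
  calc c * x * c⁻¹ = h * (h⁻¹ * c * x) * c⁻¹ := by group
    _ = h * (x * (h⁻¹ * c)) * c⁻¹ := by rw [e]
    _ = h * x * h⁻¹ := by group
    _ = y := hxy


theorem cyc_central [Finite G] {p : ℕ} [Fact p.Prime] {P : Subgroup G} [IsCyclic P]
    (hP : IsPGroup p P) (hQP : Q ≤ normalizer (P : Set G))
    (hcop : (Nat.card P).Coprime (Nat.card Q)) {x : G} (hxP : x ∈ P) (hx1 : x ≠ 1)
    (hxQ : x ∈ centralizer (Q : Set G)) : P ≤ centralizer (Q : Set G) := by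
  rcases hP.commutator_eq_bot_or_commutator_eq_self hQP hcop with h | h
  · rw [Subgroup.commutator_eq_bot_iff_le_centralizer] at h
    exact Subgroup.le_centralizer_iff.mp h
  · exfalso
    have : IsMulCommutative P := ⟨⟨fun a b => (IsCyclic.commGroup (α := P)).mul_comm a b⟩⟩
    have h1 := Cfsg.Agent.Lib.Helper1.coprime_abelian_inf Q P hQP hcop.symm
    rw [Subgroup.commutator_comm, h] at h1
    have h2 : x ∈ (P ⊓ centralizer (Q : Set G)) ⊓ P := ⟨⟨hxP, hxQ⟩, hxP⟩
    rw [h1, Subgroup.mem_bot] at h2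
    exact hx1 h2

theorem hall_centralizer [Finite G] (hHallG : (Nat.card H).Coprime H.index)
    (hQ : Q ≤ normalizer (H : Set G)) (hcop : (Nat.card Q).Coprime (Nat.card H)) [IsZGroup H] :
    (Nat.card ↥(H ⊓ centralizer (Q : Set G))).Coprime (H ⊓ centralizer (Q : Set G)).index := by
  set D : Subgroup G := H ⊓ centralizer (Q : Set G) with hD
  have hDH : D ≤ H := inf_le_left
  rw [Nat.coprime_iff_gcd_eq_one]
  by_contra hne
  obtain ⟨p, hp, hpd⟩ := Nat.exists_prime_and_dvd hne
  have : Fact p.Prime := ⟨hp⟩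
  have hpD : p ∣ Nat.card D := hpd.trans (Nat.gcd_dvd_left _ _)
  have hpI : p ∣ D.index := hpd.trans (Nat.gcd_dvd_right _ _)
  have hpH : p ∣ Nat.card H := hpD.trans (Subgroup.card_dvd_of_le hDH)
  obtain ⟨x0, hx0⟩ := exists_prime_orderOf_dvd_card' p hpD
  set x : G := (x0 : G) with hx
  have hox : orderOf x = p := by rw [hx, Subgroup.orderOf_coe, hx0]
  have hx1 : x ≠ 1 := by
    intro h
    rw [h, orderOf_one] at hox
    exact hp.one_lt.ne hox
  have hxH : x ∈ H := hDH x0.2
  have hxQ : x ∈ centralizer (Q : Set G) := x0.2.2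
  set Cx : Subgroup G := H ⊓ centralizer ({x} : Set G) with hCx
  have hCxH : Cx ≤ H := inf_le_left
  have hcx : ∀ g : G, g ∈ centralizer ({x} : Set G) ↔ g * x = x * g := by
    intro g
    rw [Subgroup.mem_centralizer_singleton_iff]
  have hxq : ∀ a ∈ Q, a * x = x * a := fun a ha => (Subgroup.mem_centralizer_iff.mp hxQ a ha)
  have hQCx : Q ≤ normalizer (Cx : Set G) := by
    intro a ha
    refine mem_normalizer_inf' (hQ ha) ?_
    rw [Subgroup.mem_normalizer_iff]
    intro n
    rw [hcx, hcx]
    have e := hxq a ha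
    constructor
    · intro h1
      calc a * n * a⁻¹ * x = a * n * (a⁻¹ * x * a) * a⁻¹ := by group
        _ = a * n * (a⁻¹ * (a * x)) * a⁻¹ := by rw [e]; group
        _ = a * (n * x) * a⁻¹ := by group
        _ = a * (x * n) * a⁻¹ := by rw [h1]
        _ = (a * x) * n * a⁻¹ := by group
        _ = x * (a * n * a⁻¹) := by rw [e]; group
    · intro h1
      calc n * x = a⁻¹ * (a * n * a⁻¹ * (a * x)) := by group
        _ = a⁻¹ * ((a * n * a⁻¹ * x) * a) := by rw [e]; group
        _ = a⁻¹ * ((x * (a * n * a⁻¹)) * a) := by rw [h1]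
        _ = a⁻¹ * (x * a) * n := by group
        _ = x * n := by rw [← e]; group
  have hZC : IsZGroup Cx := IsZGroup.of_injective (f := Subgroup.inclusion hCxH)
    (Subgroup.inclusion_injective hCxH)
  have hsolv : Group.IsSolvable Cx := inferInstance
  obtain ⟨⟨P, hPQ⟩, -⟩ := Cfsg.Agent.Lib.Helper1.invariant_sylow Q Cx hQCx
    (Nat.Coprime.coprime_dvd_right (Subgroup.card_dvd_of_le hCxH) hcop) (Or.inr hsolv) p
  set P' : Subgroup G := (P : Subgroup Cx).map Cx.subtype with hP'
  have hP'c : Nat.card P' = p ^ (Nat.card Cx).factorization p := by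
    rw [hP', Subgroup.card_map_of_injective Cx.subtype_injective]
    exact P.card_eq_multiplicity
  have hP'p : IsPGroup p P' := IsPGroup.of_card hP'c
  have hP'cyc : IsCyclic P' :=
    isCyclic_of_surjective ((P : Subgroup Cx).equivMapOfInjective Cx.subtype Cx.subtype_injective)
      (MulEquiv.surjective _)
  have hxCx : x ∈ Cx := ⟨hxH, (hcx x).mpr rfl⟩
  -- `x ∈ P'`
  have hxP : x ∈ P' := by
    set xx : Cx := ⟨x, hxCx⟩ with hxx
    have hzn : (zpowers xx).Normal := by
      have hc : zpowers xx ≤ center Cx := by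
        rw [Subgroup.zpowers_le, Subgroup.mem_center_iff]
        intro g
        exact Subtype.ext ((hcx g).mp g.2.2)
      refine ⟨fun n hn g => ?_⟩
      have := Subgroup.mem_center_iff.mp (hc hn) g
      rw [this, mul_inv_cancel_right]
      exact hn
    have hzp : IsPGroup p (zpowers xx) := by
      apply IsPGroup.of_card (n := 1)
      rw [Nat.card_zpowers, pow_one, hxx, ← hox]
      exact (Subgroup.orderOf_mk x hxCx)
    have h1 := P.2.to_sup_of_normal_right hzp
    have h2 := P.3 h1 le_sup_left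
    have h3 : xx ∈ (P : Subgroup Cx) := by
      have : xx ∈ (P : Subgroup Cx) ⊔ zpowers xx := (le_sup_right : zpowers xx ≤ _) (mem_zpowers xx)
      rw [h2] at this
      exact this
    exact Subgroup.mem_map.mpr ⟨xx, h3, rfl⟩
  have hP'H : P' ≤ H := (Subgroup.map_subtype_le _).trans hCxH
  have hP'D : P' ≤ D := by
    refine le_inf hP'H (cyc_central hP'p hPQ ?_ hxP hx1 hxQ)
    exact (Nat.Coprime.coprime_dvd_right (Subgroup.card_dvd_of_le hP'H) hcop).symm
  -- a Sylow subgroup of `H` containing `x` lies in `Cx`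
  set v := (Nat.card H).factorization p with hv
  have hvC : p ^ v ∣ Nat.card Cx := by
    have hzp : IsPGroup p (zpowers (⟨x, hxH⟩ : H)) := by
      apply IsPGroup.of_card (n := 1)
      rw [Nat.card_zpowers, pow_one, ← hox]
      exact (Subgroup.orderOf_mk x hxH)
    obtain ⟨S, hS⟩ := hzp.exists_le_sylow
    have hSc : Nat.card S = p ^ v := S.card_eq_multiplicity
    have hSle : (S : Subgroup H).map H.subtype ≤ Cx := by
      rintro _ ⟨s, hs, rfl⟩
      refine ⟨s.2, (hcx _).mpr ?_⟩
      have hxS : (⟨x, hxH⟩ : H) ∈ (S : Subgroup H) := hS (mem_zpowers _)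
      have := (IsCyclic.commGroup (α := S)).mul_comm ⟨s, hs⟩ ⟨⟨x, hxH⟩, hxS⟩
      exact congrArg (fun t : S => ((t : H) : G)) this
    have := Subgroup.card_dvd_of_le hSle
    rwa [Subgroup.card_map_of_injective H.subtype_injective, hSc] at this
  have hvP : p ^ v ∣ Nat.card P' := by
    rw [hP'c]
    exact pow_dvd_pow p ((hp.pow_dvd_iff_le_factorization Nat.card_pos.ne').mp hvC)
  have h5 : p ^ (v + 1) ∣ Nat.card G := by
    rw [← D.card_mul_index, pow_succ]
    exact mul_dvd_mul (hvP.trans (Subgroup.card_dvd_of_le hP'D)) hpI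
  rw [← H.card_mul_index] at h5
  have h6 : (p ^ (v + 1)).Coprime H.index :=
    Nat.Coprime.pow_left _ (Nat.Coprime.coprime_dvd_left hpH hHallG)
  exact Nat.pow_succ_factorization_not_dvd Nat.card_pos.ne' hp (h6.dvd_of_dvd_mul_right h5)


theorem centralizer_compl [Finite G] (hTI : Cfsg.IsTISubset (H : Set G))
    (hHall : (Nat.card H).Coprime (H.subgroupOf (normalizer (H : Set G))).index)
    (hQ : Q ≤ normalizer (H : Set G)) (hQH : Q ⊓ H = ⊥) (hQH' : Q ⊔ H = normalizer (H : Set G))
    [IsZGroup H] :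
    (Nat.card ↥(H ⊓ centralizer (Q : Set G))).Coprime (H ⊓ centralizer (Q : Set G)).index ∧
    ∃ N : Subgroup G, N.Normal ∧ N.IsComplement' (H ⊓ centralizer (Q : Set G)) := by
  have hHallG := hall_of_ti hTI hHall
  have hcop := coprime_compl hHall hQ hQH
  have hD := hall_centralizer hHallG hQ hcop
  refine ⟨hD, ?_⟩
  set D : Subgroup G := H ⊓ centralizer (Q : Set G) with hDdef
  have hDH : D ≤ H := inf_le_left
  obtain ⟨K, hKn, hsup, hinf⟩ := Cfsg.Agent.S0877.result D hD
    (by
      intro x hx y hy hxy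
      obtain ⟨c, hc⟩ := isConj_iff.mp hxy
      by_cases hx1 : x = 1
      · subst hx1
        refine ⟨1, D.one_mem, ?_⟩
        rw [← hc]; group
      · have hcN := ti_mem hTI (hDH hx) hx1 (by rw [hc]; exact hDH hy)
        rw [← hQH'] at hcN
        have hcN' : c ∈ ((Q ⊔ H : Subgroup G) : Set G) := hcN
        rw [Subgroup.coe_mul_of_left_le_normalizer_right Q H hQ] at hcN'
        obtain ⟨q, hq, h, hh, rfl⟩ := hcN'
        have hyq : q * y = y * q := Subgroup.mem_centralizer_iff.mp hy.2 q hq
        have e : h * x * h⁻¹ = y := by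
          calc h * x * h⁻¹ = q⁻¹ * (q * h * x * (q * h)⁻¹) * q := by group
            _ = q⁻¹ * (y * q) := by rw [hc]; group
            _ = y := by rw [← hyq]; group
        exact fusion_aux hQ hcop hx.2 hy.2 hh e)
    (by
      intro E p hp hE hcard
      by_cases hEb : E = ⊥
      · subst hEb
        exact ⟨1, by simp⟩
      · have : Nontrivial E := (Subgroup.nontrivial_iff_ne_bot E).mpr hEb
        obtain ⟨z, hz1, hzc, q, hq, hzq⟩ := exists_central_pelt hp hE
        have : Fact q.Prime := ⟨hq⟩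
        have hcardH : Nat.card E ∣ Nat.card H := hcard.trans (Subgroup.card_dvd_of_le hDH)
        have hpow : ∀ y ∈ E, y ^ Nat.card H = 1 := by
          intro y hy
          have h1 : (⟨y, hy⟩ : E) ^ Nat.card E = 1 := pow_card_eq_one'
          have h2 : y ^ Nat.card E = 1 := congrArg Subtype.val h1
          obtain ⟨d, hd⟩ := hcardH
          rw [hd, pow_mul, h2, one_pow]
        have hzq' : IsPGroup q (zpowers (z : G)) := by
          have h1 : zpowers (z : G) = (zpowers z).map E.subtype := by
            rw [MonoidHom.map_zpowers]; rfl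
          rw [h1]
          exact hzq.map _
        have hz1' : (z : G) ≠ 1 := fun h => hz1 (Subtype.ext h)
        have hqd : q ∣ Nat.card H := by
          obtain ⟨k, hk⟩ := (IsPGroup.iff_orderOf.mp hzq') ⟨z, mem_zpowers (z : G)⟩
          rw [Subgroup.orderOf_mk] at hk
          have hk0 : k ≠ 0 := by
            rintro rfl
            rw [pow_zero, orderOf_eq_one_iff] at hk
            exact hz1' hk
          have h1 : q ∣ orderOf (z : G) := by rw [hk]; exact dvd_pow_self q hk0
          exact h1.trans (orderOf_dvd_of_pow_eq_one (hpow z z.2))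
        have hqi : ¬ q ∣ H.relIndex ⊤ := by
          rw [Subgroup.relIndex_top_right]
          intro h
          exact hq.one_lt.ne' (Nat.eq_one_of_dvd_coprimes hHallG hqd h)
        obtain ⟨c, -, hc⟩ := Cfsg.Agent.Lib.Helper1.exists_conj_le_of_not_dvd_relIndex H ⊤
          (zpowers (z : G)) hqi le_top hzq'
        have hz' := hc z (mem_zpowers (z : G))
        have hz'1 : c⁻¹ * (z : G) * c ≠ 1 := by
          intro h
          apply hz1'
          have : (z : G) = c * (c⁻¹ * z * c) * c⁻¹ := by group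
          rw [this, h]; group
        -- the conjugate of `E` lies in `H`
        have hE1 : ∀ y ∈ E, c⁻¹ * y * c ∈ H := by
          intro y hy
          have hcomm : y * (z : G) = z * y := by
            have := Subgroup.mem_center_iff.mp hzc ⟨y, hy⟩
            exact congrArg Subtype.val this
          refine mem_of_pow' hHall (ti_mem hTI hz' hz'1 ?_) ?_
          · have : c⁻¹ * y * c * (c⁻¹ * (z : G) * c) * (c⁻¹ * y * c)⁻¹ = c⁻¹ * (y * z) * y⁻¹ * c := by
              group
            rw [this, hcomm]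
            have : c⁻¹ * ((z : G) * y) * y⁻¹ * c = c⁻¹ * z * c := by group
            rw [this]; exact hz'
          · have h4 : c⁻¹ * y * c = MulAut.conj c⁻¹ y := by simp [MulAut.conj_apply]
            rw [h4, ← map_pow, hpow y hy, map_one]
        set E1 : Subgroup G := E.map (MulAut.conj c⁻¹).toMonoidHom with hE1d
        have hE1H : E1 ≤ H := by
          rintro _ ⟨y, hy, rfl⟩
          simpa [MulAut.conj_apply] using hE1 y hy
        have hE1c : Nat.card E1 = Nat.card E :=
          Subgroup.card_map_of_injective (MulAut.conj c⁻¹).injective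
        -- Hall theory in `H`
        set m := Nat.card D with hm
        set n := (D.subgroupOf H).index with hn
        have hD'c : Nat.card (D.subgroupOf H) = m :=
          Nat.card_congr (Subgroup.subgroupOfEquivOfLe hDH).toEquiv
        have hG : Nat.card H = m * n := by
          rw [← hD'c, hn, Subgroup.card_mul_index]
        have hnd : n ∣ D.index := by
          have := Subgroup.relIndex_mul_index hDH
          exact Dvd.intro _ this
        have hmn : m.Coprime n := Nat.Coprime.coprime_dvd_right hnd hD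
        have hE1'c : Nat.card (E1.subgroupOf H) = Nat.card E := by
          rw [← hE1c]
          exact Nat.card_congr (Subgroup.subgroupOfEquivOfLe hE1H).toEquiv
        obtain ⟨D1, hD1c, hD1⟩ := Cfsg.Agent.S0005.result m n hG hmn (E1.subgroupOf H)
          (by rw [hE1'c]; exact Nat.Coprime.coprime_dvd_left hcard hmn)
        obtain ⟨g, hg⟩ := Cfsg.Agent.S0004.result m n hG hmn D1 (D.subgroupOf H) hD1c hD'c
        refine ⟨(g : G) * c⁻¹, ?_⟩
        rintro _ ⟨y, hy, rfl⟩
        have h1 : (⟨c⁻¹ * y * c, hE1 y hy⟩ : H) ∈ D1 := by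
          apply hD1
          rw [Subgroup.mem_subgroupOf]
          exact ⟨y, hy, by simp [MulAut.conj_apply]⟩
        have h2 := Subgroup.smul_mem_pointwise_smul _ (MulAut.conj g) D1 h1
        rw [hg, Subgroup.mem_subgroupOf] at h2
        have h3 : ((MulAut.conj g • (⟨c⁻¹ * y * c, hE1 y hy⟩ : H) : H) : G)
            = (MulAut.conj ((g : G) * c⁻¹)).toMonoidHom y := by
          simp [MulAut.smul_def, MulAut.conj_apply, mul_assoc]
        rw [h3] at h2
        exact h2)
  refine ⟨K, hKn, ?_⟩
  apply Subgroup.isComplement'_of_disjoint_and_mul_eq_univ (disjoint_iff.mpr hinf)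
  rw [← Subgroup.normal_mul, hsup, Subgroup.coe_top]

end Cfsg.Agent.Lib.Lead.TIHall
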